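import Cfsg.Agent.H16.Og.Seven
import Cfsg.Agent.H377.ToOmega

/-!
# S3691, subgroups of `O₇(q)`, `q` odd: transport and elements of odd order (helper142)
-/

set_option autoImplicit false

namespace Cfsg.Agent.H142.Rg

open Module QuadraticMap Cfsg.Agent.LieClassical.OrthCore Cfsg.Agent.LieClassical.OrthTrans
  Cfsg.Agent.LieClassical.OrthFinite

section tr

variable {F : Type*} [Field F] {V W : Type*} [AddCommGroup V] [Module F V] [AddCommGroup W] [Module F W]

/-- transport of linear automorphisms -/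
def tr (e : W ≃ₗ[F] V) : (V ≃ₗ[F] V) ≃* (W ≃ₗ[F] W) where
  toFun x := (e.trans x).trans e.symm
  invFun y := (e.symm.trans y).trans e
  left_inv x := by
    apply LinearEquiv.ext
    intro v
    simp
  right_inv y := by
    apply LinearEquiv.ext
    intro v
    simp
  map_mul' x y := by
    apply LinearEquiv.ext
    intro v
    change e.symm (x (y (e v))) = e.symm (x (e (e.symm (y (e v)))))
    rw [e.apply_symm_apply]

theorem tr_apply (e : W ≃ₗ[F] V) (x : V ≃ₗ[F] V) (w : W) : tr e x w = e.symm (x (e w)) := rfl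

theorem tr_symm_apply (e : W ≃ₗ[F] V) (y : W ≃ₗ[F] W) (v : V) : (tr e).symm y v = e (y (e.symm v)) := rfl

variable {Q : QuadraticForm F V} {R : QuadraticForm F W} {c : F} {e : W ≃ₗ[F] V}

theorem map_O (hc : c ≠ 0) (he : ∀ u, Q (e u) = c * R u) : (O Q).map (tr e).toMonoidHom = O R := by
  ext y
  constructor
  · rintro ⟨x, hx, rfl⟩
    refine mem_O.2 fun u => mul_left_cancel₀ hc ?_
    rw [← he, ← he]
    change Q (e (e.symm (x (e u)))) = _
    rw [e.apply_symm_apply]
    exact mem_O.1 hx _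
  · intro hy
    refine ⟨(tr e).symm y, mem_O.2 fun v => ?_, (tr e).apply_symm_apply y⟩
    rw [tr_symm_apply, he, mem_O.1 hy, ← he, e.apply_symm_apply]

theorem map_E [FiniteDimensional F V] [FiniteDimensional F W] (hc : c ≠ 0) (he : ∀ u, Q (e u) = c * R u)
    (hG : Good Q) (hG' : Good R) : (E Q).map (tr e).toMonoidHom = E R := by
  rw [← hG.commutator_eq_E, ← hG'.commutator_eq_E, Subgroup.map_commutator, map_O hc he]

end tr

section odd

theorem finite_equiv {F : Type*} [Field F] {V : Type*} [AddCommGroup V] [Module F V] [Finite V] :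
    Finite (V ≃ₗ[F] V) := Finite.of_injective (fun e : V ≃ₗ[F] V => (e : V → V)) DFunLike.coe_injective

variable {F : Type*} [Field F] {V : Type*} [AddCommGroup V] [Module F V] [FiniteDimensional F V] [Finite V]
  {Q : QuadraticForm F V} {H : Subgroup (V ≃ₗ[F] V)}

theorem exists_elt (hG : Good Q) (hH : H ≤ O Q) {r : ℕ} (hr : r.Prime) (hr2 : r ≠ 2) (h : r ∣ Nat.card H) :
    ∃ x ∈ H ⊓ E Q, orderOf x = r := by
  have := Fact.mk hr
  have hfin : Finite (V ≃ₗ[F] V) := finite_equiv
  obtain ⟨x, hx⟩ := exists_prime_orderOf_dvd_card' r h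
  have hx' : orderOf (x : V ≃ₗ[F] V) = r := by rw [Subgroup.orderOf_coe, hx]
  refine ⟨x, ⟨x.2, Cfsg.Agent.H16.Og.mem_E_of_odd hG (hH x.2) (hr.odd_of_ne_two hr2) ?_⟩, hx'⟩
  rw [← hx', pow_orderOf_eq_one]

theorem part_le (hG : Good Q) (hH : H ≤ O Q) {p : ℕ} (hp : p.Prime) (hp2 : p ≠ 2) :
    (Nat.card H).factorization p ≤ (Nat.card ↥(H ⊓ E Q)).factorization p := by
  have := Fact.mk hp
  have hfin : Finite (V ≃ₗ[F] V) := finite_equiv
  obtain ⟨P⟩ : Nonempty (Sylow p H) := inferInstance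
  have h1 : (P : Subgroup H).map H.subtype ≤ H ⊓ E Q := by
    rintro _ ⟨x, hx, rfl⟩
    refine ⟨x.2, ?_⟩
    obtain ⟨k, hk⟩ := P.2 ⟨x, hx⟩
    refine Cfsg.Agent.H16.Og.mem_E_of_odd hG (hH x.2) (m := p ^ k) ((hp.odd_of_ne_two hp2).pow) ?_
    have h2 : x ^ p ^ k = 1 := congrArg Subtype.val hk
    have h3 := congrArg Subtype.val h2
    exact h3
  have h2 := Subgroup.card_dvd_of_le h1
  rw [Subgroup.card_map_of_injective H.subtype_injective, Sylow.card_eq_multiplicity] at h2
  exact (hp.pow_dvd_iff_le_factorization Nat.card_pos.ne').1 h2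

end odd

end Cfsg.Agent.H142.Rg
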