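import Cfsg.Agent.H327.COV.Big
import Cfsg.Agent.S1059
import Cfsg.Agent.H883.Bridge
import Cfsg.Agent.H142.Rg.SevenA

/-!
# S3691, M2: subgroups of `O₇(q)`, `q` odd (helper142)

`seven_odd`: a group of isometries of a 7-dimensional space over a field of odd order `q > 13` whose order is divisible by
primitive primes of `q⁶ - 1` and `q³ - 1` and whose `p`-part is larger than `q⁶ f_p` contains `Ω₇(q)`.
-/

set_option autoImplicit false

namespace Cfsg.Agent.H142.Rg

open Module QuadraticMap Cfsg Cfsg.Geo Cfsg.Agent.LieClassical.OrthCore Cfsg.Agent.LieClassical.OrthTrans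
  Cfsg.Agent.LieClassical.OrthFinite Cfsg.Agent.LieClassical.OmegaReindex
open Cfsg.Agent.H858.TOrth (fix mem_fix ND)
open Cfsg.Agent.H884.El (pre PP)
open Cfsg.Agent.H833.RS.O73
open Cfsg.Agent.H327.COV
open scoped MatrixGroups Matrix

universe u v

theorem card_aut_dvd (T : Type*) [Group T] [Finite T] : Nat.card (MulAut T) ∣ Nat.card T * Nat.card (Cfsg.Out T) := by
  rw [Subgroup.card_eq_card_quotient_mul_card_subgroup (Inn T), mul_comm]
  refine mul_dvd_mul_right ?_ _
  have h1 : Nat.card (Inn T) ∣ Nat.card T := by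
    have h2 := Subgroup.card_range_dvd (MulAut.conj : T →* MulAut T)
    exact h2
  exact h1

/-- a group with a normal subgroup with trivial centraliser -/
theorem card_dvd_of_soc {M : Type*} [Group M] [Finite M] {S : Subgroup M} [S.Normal]
    (hC : Subgroup.centralizer (S : Set M) = ⊥) {T : Type*} [Group T] [Finite T] (e : S ≃* T) :
    Nat.card M ∣ Nat.card T * Nat.card (Cfsg.Out T) := by
  refine dvd_trans ?_ (card_aut_dvd T)
  rw [← Nat.card_congr (MulAut.congr e).toEquiv]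
  refine Subgroup.card_dvd_of_injective (MulAut.conjNormal : M →* MulAut S) ?_
  rw [injective_iff_map_eq_one]
  intro x hx
  have h1 : x ∈ Subgroup.centralizer (S : Set M) := by
    rw [Subgroup.mem_centralizer_iff]
    intro y hy
    have h2 := congrArg Subtype.val (DFunLike.congr_fun hx ⟨y, hy⟩)
    rw [MulAut.conjNormal_apply] at h2
    have h3 : x * y * x⁻¹ = y := h2
    rw [mul_inv_eq_iff_eq_mul] at h3
    exact h3.symm
  rw [hC, Subgroup.mem_bot] at h1
  exact h1

section std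

variable {F : Type} [Field F] [Fintype F]

theorem good_std (h2 : (2 : F) ≠ 0) : Good (quadOdd 3 F) :=
  good_of_finite (nondeg_odd h2) (by rw [finrank_seven]; norm_num)

/-- the action, its image and the alternatives -/
theorem exists_alt' (hodd : Odd (Fintype.card F)) :
    ∃ A : POmega F ⇑(quadOdd 3 F) →* ((I7 → F) ≃ₗ[F] (I7 → F)), Function.Injective A ∧
      (∀ x, A x ∈ O (quadOdd 3 F)) ∧ E (quadOdd 3 F) ≤ A.range ∧
      ∀ M : Subgroup (POmega F ⇑(quadOdd 3 F)), IsCoatom M →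
        IsMaximalIn (omegaGL (quadFormOdd 3 F)) (pre (⇑(quadOdd 3 F)) M) ∧ Alt A M := by
  have h2 : (2 : F) ≠ 0 := Cfsg.Agent.H264.FKS.two_ne_zero_of_odd hodd
  have hfin : Finite (POmega F ⇑(quadOdd 3 F)) := Quotient.finite _
  obtain ⟨ψ, hψ, hr, hpre⟩ := exists_emb h2
  refine ⟨(glEquiv I7 F).toMonoidHom.comp ψ, (glEquiv I7 F).injective.comp hψ, fun x => ?_, fun g hg => ?_, fun M hM => ?_⟩
  · exact mem_O.2 (iso_emb hψ hr x)
  · have h3 : (glEquiv I7 F).symm g ∈ omegaGL (⇑(quadOdd 3 F)) := by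
      rw [Cfsg.Agent.H883.Bridge.mem_omegaGL_iff (good_std h2), MulEquiv.apply_symm_apply]
      exact hg
    rw [← hr] at h3
    obtain ⟨x, hx⟩ := h3
    refine ⟨x, ?_⟩
    change glEquiv I7 F (ψ x) = g
    rw [hx, MulEquiv.apply_symm_apply]
  have hmax : IsMaximalIn (omegaGL ⇑(quadOdd 3 F)) (pre (⇑(quadOdd 3 F)) M) := by
    rw [hpre, ← hr]
    exact isMaximalIn_map hψ hM
  have hmem : ∀ z ∈ M, ψ z ∈ pre (⇑(quadOdd 3 F)) M := fun z hz => by rw [hpre]; exact ⟨z, hz, rfl⟩
  have hcard : Nat.card (pre (⇑(quadOdd 3 F)) M) = Nat.card M := by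
    rw [hpre]
    exact Nat.card_congr (M.equivMapOfInjective ψ hψ).symm.toEquiv
  obtain ⟨H, hH⟩ : ∃ H, H = pre (⇑(quadOdd 3 F)) M := ⟨_, rfl⟩
  unfold Alt
  rw [← hH] at hmax hmem hcard ⊢
  rw [coe_quadOdd] at hmax
  refine ⟨hmax, ?_⟩
  rcases Cfsg.Agent.S5814.result (F := F) hodd H hmax with
    ⟨W, hW0, hWs, hHW⟩ | ⟨W, hW0, he, hWn, -, hHW⟩ | ⟨hq, D, hD, hHD⟩ | ⟨F₀, s, P, hs, hcF, -, hHS⟩ | h6
  · left
    refine ⟨W, hW0, fun w hw => ?_, fun x hx w hw => ?_⟩
    · rw [coe_quadOdd]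
      exact hWs w hw
    · have h1 := hmem x hx
      rw [hHW] at h1
      exact (h1.1 w).1 hw
  · right; left
    rw [← coe_quadOdd] at hWn
    refine ⟨W, hW0, he, ND.of_geo hWn, fun x hx w hw => ?_⟩
    have h1 := hmem x hx
    rw [hHW] at h1
    exact (h1.1 w).1 hw
  · right; right; left
    refine ⟨hq, fun x hx => ?_⟩
    have hD' := hD.decomp
    rw [← coe_quadOdd] at hD'
    have h4 := hmem x hx
    rw [hHD] at h4
    obtain ⟨σ, hσ⟩ := h4.1
    have h5 := frame_pow hD' (iso_emb hψ hr x) hσ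
    have h7 : x ^ (orderOf σ * 2) = 1 := by
      by_contra hne
      apply lin_emb_ne hψ hr hne
      rw [map_pow, Cfsg.Agent.H884.El.lin, H251.GeoCard.toLin_pow]
      exact h5
    obtain ⟨c, hc⟩ := perm_pow σ
    have h8 : orderOf σ * 2 * c = (orderOf σ * c) * 2 := by ring
    rw [← hc] at h8
    have h9 : 840 = orderOf σ * 2 * c := by omega
    rw [h9, pow_mul, h7, one_pow]
  · right; right; right; left
    refine ⟨F₀, s, hs, hcF, fun r hr' hrF hrM => ?_⟩
    have h1 : r ∣ Nat.card (subfieldSubgroup F₀ P) := by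
      rw [← hcard] at hrM
      refine hrM.trans (Subgroup.card_dvd_of_le ?_)
      rw [hHS]
      exact inf_le_left
    have h3 := H251.GeoCard.subfield hr' hrF h1
    rwa [H884.El.card_odd] at h3
  · right; right; right; right
    exact h6

/-- the residual class: orders -/
theorem res_part (hodd : Odd (Fintype.card F)) {p f : ℕ} (hp : p.Prime) (hp2 : p ≠ 2) [CharP F p]
    (hF : Fintype.card F = p ^ f) (hf : 1 ≤ f) (hq : 3 ≤ p ^ f) {M : Subgroup (POmega F ⇑(quadOdd 3 F))}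
    (hmax : IsMaximalIn (omegaGL (quadFormOdd 3 F)) (pre (⇑(quadOdd 3 F)) M))
    (hres : InOrthogonalResidualClass (pre (⇑(quadOdd 3 F)) M)) :
    Fintype.card F = 3 ∨
    ((Fintype.card F).Prime ∧ ∀ x ∈ M, ∃ y : PSp 3 (ZMod 2), orderOf y = orderOf x) ∨
    (Nat.card M).factorization p ≤ 6 * f + f.factorization p := by
  have h2 : (2 : F) ≠ 0 := Cfsg.Agent.H264.FKS.two_ne_zero_of_odd hodd
  have hfin : Finite (POmega F ⇑(quadOdd 3 F)) := Quotient.finite _
  rcases res_cases hodd hp hF hq hmax hres with ⟨h, -⟩ | h | -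
  · exact Or.inl h
  · exact Or.inr (Or.inl h)
  obtain ⟨P, hP, h⟩ := Cfsg.Agent.S5815.result hodd _ hmax hres
  obtain ⟨S, hSn, -, -, hSC, ⟨e⟩⟩ := Cfsg.Agent.H264.FKS.exists_res_omega (quadOdd_nondegenerate h2)
    (by simp only [Fintype.card_sum, Fintype.card_fin, Fintype.card_unit]; omega)
    (quadOdd_isotropic (by omega)) (M := M) hP
  rcases h with ⟨⟨e'⟩, h3⟩ | ⟨⟨e'⟩, h3⟩ | ⟨e'⟩
  · exact Or.inl h3
  · refine Or.inr (Or.inl ⟨h3, fun x hx => ?_⟩)
    have h3 := pow_mem_of_out hSC (out_congr (e.trans e') (fun α => by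
      rw [pow_one]; exact Cfsg.Agent.KFacts.Co3.AutM.aut_PSp α)) (⟨x, hx⟩ : M)
    rw [pow_one] at h3
    refine ⟨(e.trans e') ⟨_, h3⟩, ?_⟩
    rw [MulEquiv.orderOf_eq, ← Subgroup.orderOf_coe, ← Subgroup.orderOf_coe]
  · right; right
    obtain ⟨e'⟩ := e'
    obtain ⟨e''⟩ := Cfsg.Agent.H638.G2Iso.equiv (F := F)
    have h4 := card_dvd_of_soc hSC ((e.trans e').trans e'')
    have := Fact.mk hp
    rw [Cfsg.Agent.S1059.result hF, Cfsg.Agent.S2121.result p f hF hq] at h4
    have hq1 : 1 < p ^ f := by omega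
    have hcop : ∀ k, 1 ≤ k → ¬ p ∣ (p ^ f) ^ k - 1 := by
      intro k hk h5
      have h6 : p ∣ (p ^ f) ^ k := dvd_pow (dvd_pow_self p (by omega)) (by omega)
      have h7 : 1 ≤ (p ^ f) ^ k := Nat.one_le_pow _ _ (by omega)
      have h8 := Nat.dvd_sub h6 h5
      rw [Nat.sub_sub_self h7] at h8
      exact hp.one_lt.ne' (Nat.dvd_one.1 h8)
    have hne : ∀ k, 1 ≤ k → (p ^ f) ^ k - 1 ≠ 0 := by
      intro k hk
      have : 1 < (p ^ f) ^ k := Nat.one_lt_pow (by omega) hq1
      omega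
    have hO : ∀ t, t = 2 * f ∨ t = f → t ≠ 0 ∧ t.factorization p = f.factorization p := by
      rintro t (rfl | rfl)
      · refine ⟨by omega, ?_⟩
        rw [Nat.factorization_mul (by norm_num) (by omega), Finsupp.add_apply,
          Nat.factorization_eq_zero_of_not_dvd (n := 2), zero_add]
        intro h
        exact hp2 ((Nat.prime_dvd_prime_iff_eq hp Nat.prime_two).1 h)
      · exact ⟨by omega, rfl⟩
    obtain ⟨h5, h6⟩ := hO (if p = 3 then 2 * f else f) (by split_ifs <;> simp)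
    have h7 : (p ^ f) ^ 6 * ((p ^ f) ^ 2 - 1) * ((p ^ f) ^ 6 - 1) ≠ 0 :=
      mul_ne_zero (mul_ne_zero (pow_ne_zero _ (by omega)) (hne 2 (by norm_num))) (hne 6 (by norm_num))
    have h8 := (Nat.factorization_le_iff_dvd Nat.card_pos.ne' (mul_ne_zero h7 h5)).2 h4 p
    rw [Nat.factorization_mul h7 h5, Nat.factorization_mul (mul_ne_zero (pow_ne_zero _ (by omega)) (hne 2 (by norm_num)))
      (hne 6 (by norm_num)), Nat.factorization_mul (pow_ne_zero _ (by omega)) (hne 2 (by norm_num)), Finsupp.add_apply,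
      Finsupp.add_apply, Finsupp.add_apply, h6, Nat.factorization_eq_zero_of_not_dvd (hcop 2 (by norm_num)),
      Nat.factorization_eq_zero_of_not_dvd (hcop 6 (by norm_num)), ← pow_mul, hp.factorization_pow,
      Finsupp.single_eq_same] at h8
    omega

/-- the standard space -/
theorem std {p f r₆ r₃ : ℕ} (hp : p.Prime) (hp2 : p ≠ 2) (hf : 1 ≤ f) (hF : Fintype.card F = p ^ f) (hq : 13 < p ^ f)
    (h6 : PP p (f * 6) r₆) (h3 : PP p (f * 3) r₃) {H : Subgroup ((I7 → F) ≃ₗ[F] (I7 → F))} (hH : H ≤ O (quadOdd 3 F))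
    (h6H : r₆ ∣ Nat.card H) (h3H : r₃ ∣ Nat.card H)
    (hpH : 6 * f + f.factorization p < (Nat.card H).factorization p) : E (quadOdd 3 F) ≤ H := by
  have hodd : Odd (Fintype.card F) := by rw [hF]; exact (hp.odd_of_ne_two hp2).pow
  have h2 : (2 : F) ≠ 0 := Cfsg.Agent.H264.FKS.two_ne_zero_of_odd hodd
  have hG := good_std h2
  have hfin : Finite (POmega F ⇑(quadOdd 3 F)) := Quotient.finite _
  have hfin' : Finite ((I7 → F) ≃ₗ[F] (I7 → F)) := finite_equiv
  have hchF : CharP F p := by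
    obtain ⟨p', hp'⟩ := CharP.exists F
    obtain ⟨f', hp'', hF'⟩ := FiniteField.card F p'
    have h1 : p = p' := by
      have h3 : p' ∣ p ^ f := by rw [← hF, hF']; exact dvd_pow_self p' f'.pos.ne'
      exact ((Nat.prime_dvd_prime_iff_eq hp'' hp).1 (hp''.dvd_of_dvd_pow h3)).symm
    rw [h1]
    exact hp'
  obtain ⟨A, hA, hAO, hAE, hAlt⟩ := exists_alt' hodd
  -- the preimage
  obtain ⟨M0, hM0⟩ : ∃ M0 : Subgroup (POmega F ⇑(quadOdd 3 F)), M0 = (H ⊓ E (quadOdd 3 F)).comap A := ⟨_, rfl⟩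
  have hmap : M0.map A = H ⊓ E (quadOdd 3 F) := by
    rw [hM0, Subgroup.map_comap_eq]
    exact inf_eq_right.2 (inf_le_right.trans hAE)
  have hcM : Nat.card M0 = Nat.card ↥(H ⊓ E (quadOdd 3 F)) := by
    rw [← hmap]
    exact (Subgroup.card_map_of_injective hA).symm
  rcases eq_top_or_exists_le_coatom M0 with htop | ⟨M, hM, hMM⟩
  · intro g hg
    obtain ⟨x, rfl⟩ := hAE hg
    have hx : x ∈ M0 := by rw [htop]; trivial
    rw [hM0] at hx
    exact hx.1
  exfalso
  -- the numbers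
  have hfp := hf
  have z6 : Zp p f 6 r₆ := ⟨h6.prime, fun m => by rw [h6.dvd_iff hp.one_le, mul_comm f 6],
    by have := h6.lt (by omega); omega, h6.not_dvd (by omega)⟩
  have z3 : Zp p f 3 r₃ := ⟨h3.prime, fun m => by rw [h3.dvd_iff hp.one_le, mul_comm f 3],
    by have := h3.lt (by omega); omega, h3.not_dvd (by omega)⟩
  have hQ := nondeg_odd (F := F) h2
  have h7 : finrank F (I7 → F) = 7 := finrank_seven
  have hod6 : Od (Nat.card F) 6 r₆ := by rw [Nat.card_eq_fintype_card, hF]; exact z6.od hf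
  have hod3 : Od (Nat.card F) 3 r₃ := by rw [Nat.card_eq_fintype_card, hF]; exact z3.od hf
  have o3 : Odd r₃ := z3.odd hf le_rfl
  have o6 : Odd r₆ := z6.odd hf (by norm_num)
  have l33 : r₃ ∣ Nat.card F ^ 3 - 1 := by rw [Nat.card_eq_fintype_card, hF, z3.iff_q hf]
  have elt : ∀ r : ℕ, r.Prime → Odd r → r ∣ Nat.card H → ∃ x ∈ M, orderOf x = r := by
    intro r hr hro hrH
    obtain ⟨y, hy, hyo⟩ := exists_elt hG hH hr (by rintro rfl; exact absurd hro (by decide)) hrH
    rw [← hmap] at hy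
    obtain ⟨x, hx, rfl⟩ := hy
    refine ⟨x, hMM hx, ?_⟩
    rw [← hyo]
    exact (orderOf_injective A hA x).symm
  obtain ⟨a, haM, ha⟩ := elt r₆ h6.prime o6 h6H
  obtain ⟨b, hbM, hb⟩ := elt r₃ h3.prime o3 h3H
  obtain ⟨a1, a2⟩ := A_pow hA h6.prime ha
  obtain ⟨b1, b2⟩ := A_pow hA h3.prime hb
  have hpM : 6 * f + f.factorization p < (Nat.card M).factorization p := by
    refine lt_of_lt_of_le hpH ((part_le hG hH hp hp2).trans ?_)
    rw [← hcM]
    exact (Nat.factorization_le_iff_dvd Nat.card_pos.ne' Nat.card_pos.ne').2 (Subgroup.card_dvd_of_le hMM) p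
  have h6g : 7 ≤ r₆ := by
    have := h6.lt (by omega)
    omega
  have seven : (Fintype.card F).Prime → r₆ ≤ 7 → r₃ ≤ 7 → False := by
    intro hpr h67 h37
    have hf1 : f = 1 := by
      rw [hF] at hpr
      exact Nat.Prime.eq_one_of_pow hpr
    subst hf1
    have h3' : PP p 3 r₃ := h3
    have h8 := h3'.two_mul_dvd (by norm_num) (by decide)
    have h9 := h3.prime.two_le
    have h10 := Nat.le_of_dvd (by omega) h8
    have h11 : r₆ = r₃ := by omega
    exact h6.ne_of_ne h3 (by norm_num) h11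
  rcases (hAlt M hM).2 with ⟨W, hW0, hWs, hWM⟩ | ⟨W, hW0, he, hWn, hWM⟩ | ⟨hqp, h840⟩ | ⟨F₀, r, hr, hcF, hsub⟩ | hres
  · exact hW0 (six_ts hQ h7 hod6 (hAO _) a1 a2 (hWM _ haM) hWs)
  · obtain ⟨w6, w0⟩ := six_even h7 hod6 a1 a2 (hWM _ haM) he hW0
    have h8 := three_six hQ h7 h2 hod3 o3 (hAO _) b1 b2 (hWM _ hbM) w6
    exact no_both (q := Nat.card F) (by rw [Nat.card_eq_fintype_card, hF]; omega) hod6 hod3 l33 o3
      (card_sing_one h6.prime (hAO _) a1 (hWM _ haM) w0) (card_sing_one h3.prime (hAO _) b1 (hWM _ hbM) h8)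
      (card_sub_six h2 hWn w6)
  · have key : ∀ r x, x ∈ M → orderOf x = r → r.Prime → r ≤ 7 := by
      intro r x hx hxr hr
      have h8 := orderOf_dvd_of_pow_eq_one (h840 x hx)
      rw [hxr, show 840 = 2 ^ 3 * (3 * (5 * 7)) by norm_num] at h8
      rcases hr.dvd_mul.1 h8 with h | h
      · exact (Nat.le_of_dvd (by norm_num) (hr.dvd_of_dvd_pow h)).trans (by norm_num)
      rcases hr.dvd_mul.1 h with h | h
      · exact (Nat.le_of_dvd (by norm_num) h).trans (by norm_num)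
      rcases hr.dvd_mul.1 h with h | h
      · exact (Nat.le_of_dvd (by norm_num) h).trans (by norm_num)
      · exact Nat.le_of_dvd (by norm_num) h
    exact seven hqp (key _ a haM ha h6.prime) (key _ b hbM hb h3.prime)
  · have h8 : r₆ ∣ Nat.card M := by
      have h4 : orderOf (⟨_, haM⟩ : M) = r₆ := by rw [← Subgroup.orderOf_coe]; exact ha
      rw [← h4]
      exact orderOf_dvd_natCard _
    rcases hsub r₆ h6.prime hod6.nd h8 with h4 | h4
    · rw [Nat.card_eq_fintype_card, hF] at h4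
      exact z6.not_one hf (by norm_num) h4
    · rw [hF] at hcF
      exact z6.not_sub hp hf (by norm_num) hr hcF h4
  · rcases res_part hodd hp hp2 hF hf (by omega) (hAlt M hM).1 hres with h4 | ⟨hpr, h4⟩ | h4
    · rw [hF] at h4
      omega
    · have key : ∀ r x, x ∈ M → orderOf x = r → r.Prime → r ≤ 7 := by
        intro r x hx hxr hr
        obtain ⟨y, hy⟩ := h4 x hx
        have h5 := orders_Sp62 y
        rw [hy, hxr] at h5
        simp only [Cfsg.Agent.H359.Om, Finset.mem_insert, Finset.mem_singleton] at h5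
        by_contra hlt
        rcases h5 with rfl | rfl | rfl | rfl | rfl | rfl | rfl | rfl | rfl | rfl | rfl | rfl <;>
          first | omega | exact absurd hr (by norm_num)
      exact seven hpr (key _ a haM ha h6.prime) (key _ b hbM hb h3.prime)
    · omega

end std

/-- (M2) subgroups of `O_7(q)`, `q` odd -/
theorem seven_odd {F : Type} [Field F] [Fintype F] {V : Type v} [AddCommGroup V] [Module F V] [FiniteDimensional F V]
    {Q : QuadraticForm F V} (hQ : Nondeg Q) (h7 : finrank F V = 7) {p f r₆ r₃ : ℕ} (hp : p.Prime) (hp2 : p ≠ 2)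
    (hf : 1 ≤ f) (hF : Fintype.card F = p ^ f) (hq : 13 < p ^ f) (h6 : PP p (f * 6) r₆) (h3 : PP p (f * 3) r₃)
    {H : Subgroup (V ≃ₗ[F] V)} (hH : H ≤ O Q) (h6H : r₆ ∣ Nat.card H) (h3H : r₃ ∣ Nat.card H)
    (hpH : 6 * f + f.factorization p < (Nat.card H).factorization p) : E Q ≤ H := by
  classical
  have hodd : Odd (Fintype.card F) := by rw [hF]; exact (hp.odd_of_ne_two hp2).pow
  have h2 : (2 : F) ≠ 0 := Cfsg.Agent.H264.FKS.two_ne_zero_of_odd hodd
  have hV : Finite V := Module.finite_of_finite F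
  obtain ⟨c, e, hc, he⟩ := Cfsg.Agent.H377.exists_similar_odd (m := 3) (by rw [h7]) Q hQ
  have he' : ∀ u, Q (e u) = c * quadOdd 3 F u := by
    intro u
    rw [he, coe_quadOdd, Cfsg.Agent.LieClassical.OrthForms.coe_oddForm]
  have hG : Good Q := good_of_finite hQ (by rw [h7]; norm_num)
  have hcard : Nat.card (H.map (tr e).toMonoidHom) = Nat.card H := Subgroup.card_map_of_injective (tr e).injective
  have h1 := std hp hp2 hf hF hq h6 h3 (H := H.map (tr e).toMonoidHom) (by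
    rw [← map_O hc he']
    exact Subgroup.map_mono hH) (by rw [hcard]; exact h6H) (by rw [hcard]; exact h3H) (by rw [hcard]; exact hpH)
  rw [← map_E hc he' hG (good_std h2)] at h1
  exact (Subgroup.map_le_map_iff_of_injective (tr e).injective).1 h1

end Cfsg.Agent.H142.Rg
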